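import Mathlib.GroupTheory.Sylow
import Mathlib.GroupTheory.Index
import Mathlib.GroupTheory.GroupAction.Quotient
import Mathlib.Algebra.BigOperators.GroupWithZero.Finset
import Mathlib.Combinatorics.Enumerative.DoubleCounting
import Mathlib.Tactic.Group

/-!
The number of Sylow subgroups contained in a subgroup, and the number of points fixed by a Sylow subgroup in
the cosets of a subgroup.
-/

set_option autoImplicit false
set_option linter.style.haveILetI false
set_option linter.unusedSectionVars false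

namespace Cfsg.Agent.SylowRatio

open Subgroup MulAction
open scoped Pointwise

variable {G : Type*} [Group G] [Finite G] {p : ℕ} [hp : Fact p.Prime]

/-- The number of Sylow subgroups inside a subgroup. -/
noncomputable def nu (p : ℕ) (X : Subgroup G) : ℕ := Nat.card {Q : Sylow p G // (Q : Subgroup G) ≤ X}

/-- The subgroup generated by the Sylow subgroups inside a subgroup. -/
def core (p : ℕ) (X : Subgroup G) : Subgroup G := ⨆ Q : {Q : Sylow p G // (Q : Subgroup G) ≤ X}, (Q.1 : Subgroup G)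

theorem core_le (X : Subgroup G) : core p X ≤ X := iSup_le fun Q => Q.2

theorem le_core {X : Subgroup G} {Q : Sylow p G} (hQ : (Q : Subgroup G) ≤ X) : (Q : Subgroup G) ≤ core p X :=
  le_iSup (fun Q : {Q : Sylow p G // (Q : Subgroup G) ≤ X} => (Q.1 : Subgroup G)) ⟨Q, hQ⟩

theorem core_le_of {X Y : Subgroup G} (h : ∀ Q : Sylow p G, (Q : Subgroup G) ≤ X → (Q : Subgroup G) ≤ Y) :
    core p X ≤ Y := iSup_le fun Q => h Q.1 Q.2

theorem le_core_iff {X : Subgroup G} {Q : Sylow p G} : (Q : Subgroup G) ≤ core p X ↔ (Q : Subgroup G) ≤ X :=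
  ⟨fun h => h.trans (core_le X), le_core⟩

theorem core_core (X : Subgroup G) : core p (core p X) = core p X :=
  le_antisymm (core_le _) (core_le_of fun _ h => le_core (le_core h))

theorem nu_core (X : Subgroup G) : nu p (core p X) = nu p X :=
  Nat.card_congr (Equiv.subtypeEquivRight fun _ => le_core_iff)

theorem nu_pos_iff {X : Subgroup G} : 0 < nu p X ↔ ∃ Q : Sylow p G, (Q : Subgroup G) ≤ X := by
  rw [nu, Nat.card_pos_iff]
  exact ⟨fun h => let ⟨Q⟩ := h.1; ⟨Q.1, Q.2⟩, fun ⟨Q, hQ⟩ => ⟨⟨⟨Q, hQ⟩⟩, inferInstance⟩⟩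

theorem nu_mono {X Y : Subgroup G} (h : ∀ Q : Sylow p G, (Q : Subgroup G) ≤ X → (Q : Subgroup G) ≤ Y) :
    nu p X ≤ nu p Y :=
  Nat.card_le_card_of_injective (fun Q => ⟨Q.1, h Q.1 Q.2⟩) fun a b e =>
    Subtype.ext (congrArg (fun Q : {Q : Sylow p G // (Q : Subgroup G) ≤ Y} => Q.1) e)

theorem le_of_nu_le {X Y : Subgroup G} (h : ∀ Q : Sylow p G, (Q : Subgroup G) ≤ X → (Q : Subgroup G) ≤ Y)
    (hc : nu p Y ≤ nu p X) {Q : Sylow p G} (hQ : (Q : Subgroup G) ≤ Y) : (Q : Subgroup G) ≤ X := by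
  set f : {Q : Sylow p G // (Q : Subgroup G) ≤ X} → {Q : Sylow p G // (Q : Subgroup G) ≤ Y} :=
    fun Q => ⟨Q.1, h Q.1 Q.2⟩ with hf
  have hinj : Function.Injective f := fun a b e =>
    Subtype.ext (congrArg (fun Q : {Q : Sylow p G // (Q : Subgroup G) ≤ Y} => Q.1) e)
  obtain ⟨R, hR⟩ := ((Nat.bijective_iff_injective_and_card f).2
    ⟨hinj, le_antisymm (Nat.card_le_card_of_injective f hinj) hc⟩).2 ⟨Q, hQ⟩
  have e : R.1 = Q := congrArg Subtype.val hR
  exact e ▸ R.2

theorem smul_le {g : G} {X : Subgroup G} {Q : Sylow p G} :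
    ((g • Q : Sylow p G) : Subgroup G) ≤ X.map (MulAut.conj g).toMonoidHom ↔ (Q : Subgroup G) ≤ X :=
  map_le_map_iff_of_injective (MulAut.conj g).injective

theorem nu_map (g : G) (X : Subgroup G) : nu p (X.map (MulAut.conj g).toMonoidHom) = nu p X :=
  (Nat.card_congr (Equiv.subtypeEquiv (MulAction.toPerm g) fun _ => smul_le.symm)).symm

theorem core_map (g : G) (X : Subgroup G) :
    core p (X.map (MulAut.conj g).toMonoidHom) = (core p X).map (MulAut.conj g).toMonoidHom := by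
  refine le_antisymm (core_le_of fun Q hQ => ?_) (map_le_iff_le_comap.2 (core_le_of fun Q hQ => ?_))
  · have h : (g • (g⁻¹ • Q)) = Q := smul_inv_smul g Q
    rw [← h] at hQ ⊢
    exact map_mono (le_core (smul_le.1 hQ))
  · exact map_le_iff_le_comap.1 (le_core (smul_le.2 hQ) : ((g • Q : Sylow p G) : Subgroup G) ≤ _)

theorem map_of_mem {g : G} {X : Subgroup G} (hg : g ∈ X) : X.map (MulAut.conj g).toMonoidHom = X := by
  ext a
  constructor
  · rintro ⟨b, hb, rfl⟩
    exact mul_mem (mul_mem hg hb) (inv_mem hg)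
  · intro ha
    exact ⟨g⁻¹ * a * g, mul_mem (mul_mem (inv_mem hg) ha) hg, by simp [mul_assoc]⟩

/-- Sylow subgroups inside a subgroup are conjugate in it. -/
theorem conj_in {X : Subgroup G} {Q Q' : Sylow p G} (hQ : (Q : Subgroup G) ≤ X) (hQ' : (Q' : Subgroup G) ≤ X) :
    ∃ x ∈ X, x • Q = Q' := by
  obtain ⟨x, hx⟩ := exists_smul_eq ↥X (Q.subtype hQ) (Q'.subtype hQ')
  refine ⟨x, x.2, Sylow.ext (le_antisymm ?_ ?_)⟩
  · rintro _ ⟨a, ha, rfl⟩
    have h1 : x * (⟨a, hQ ha⟩ : ↥X) * x⁻¹ ∈ ((x • Q.subtype hQ : Sylow p ↥X) : Subgroup ↥X) :=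
      ⟨⟨a, hQ ha⟩, mem_subgroupOf.2 ha, rfl⟩
    rw [hx] at h1
    exact mem_subgroupOf.1 h1
  · intro a ha
    have h1 : (⟨a, hQ' ha⟩ : ↥X) ∈ ((x • Q.subtype hQ : Sylow p ↥X) : Subgroup ↥X) := by
      rw [hx]; exact mem_subgroupOf.2 ha
    obtain ⟨b, hb, e⟩ := h1
    exact ⟨b, mem_subgroupOf.1 hb, congrArg Subtype.val e⟩

/-- A normalised subgroup generated by Sylow subgroups contains all of them. -/
theorem core_le_of_normal {L R : Subgroup G} (hR : R ≤ L) (hn : L ≤ normalizer (R : Set G)) {Q : Sylow p G}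
    (hQ : (Q : Subgroup G) ≤ R) : core p L ≤ R := by
  refine core_le_of fun Q' hQ' => ?_
  obtain ⟨x, hx, rfl⟩ := conj_in (hQ.trans hR) hQ'
  rintro _ ⟨a, ha, rfl⟩
  exact (mem_normalizer_iff.1 (hn hx) a).1 (hQ ha)

/-- The cosets of `K` inside `L`. -/
noncomputable def cosets (K L : Subgroup G) : Finset (G ⧸ K) :=
  (Set.toFinite (orbit L (QuotientGroup.mk 1 : G ⧸ K))).toFinset

theorem mem_cosets {K L : Subgroup G} {y : G ⧸ K} : y ∈ cosets K L ↔ ∃ l ∈ L, (QuotientGroup.mk l : G ⧸ K) = y := by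
  simp only [cosets, Set.Finite.mem_toFinset, MulAction.mem_orbit_iff]
  constructor
  · rintro ⟨⟨l, hl⟩, e⟩
    exact ⟨l, hl, by rw [← e]; exact congrArg QuotientGroup.mk (mul_one l).symm⟩
  · rintro ⟨l, hl, e⟩
    exact ⟨⟨l, hl⟩, by rw [← e]; exact congrArg QuotientGroup.mk (mul_one l)⟩

theorem smul_mem_cosets {K L : Subgroup G} {y : G ⧸ K} {g : G} (hg : g ∈ L) (hy : y ∈ cosets K L) :
    g • y ∈ cosets K L := by
  obtain ⟨l, hl, rfl⟩ := mem_cosets.1 hy
  exact mem_cosets.2 ⟨g * l, mul_mem hg hl, rfl⟩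

theorem card_orbit (K R : Subgroup G) (y : G ⧸ K) :
    Nat.card (orbit R y) = (R ⊓ stabilizer G y).relIndex R := by
  rw [Nat.card_coe_set_eq, ← MulAction.index_stabilizer, inf_relIndex_left, relIndex]
  congr 1

theorem stabilizer_mk (K : Subgroup G) (g : G) :
    stabilizer G (QuotientGroup.mk g : G ⧸ K) = K.map (MulAut.conj g).toMonoidHom := by
  ext a
  rw [mem_stabilizer_iff, MulAction.Quotient.smul_mk, smul_eq_mul, QuotientGroup.eq]
  constructor
  · intro h
    refine ⟨g⁻¹ * a * g, ?_, by simp [mul_assoc]⟩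
    have e := inv_mem h
    rwa [mul_inv_rev, inv_inv, ← mul_assoc] at e
  · rintro ⟨b, hb, rfl⟩
    convert inv_mem hb using 1
    simp [mul_assoc]

theorem card_cosets {K L : Subgroup G} (hKL : K ≤ L) : (cosets K L).card = K.relIndex L := by
  rw [cosets, ← Set.ncard_eq_toFinset_card _ _, ← Nat.card_coe_set_eq, card_orbit, stabilizer_mk,
    map_of_mem (one_mem K), inf_eq_right.2 hKL]

/-- The number of cosets fixed by a Sylow subgroup. -/
theorem exists_fix (p : ℕ) [Fact p.Prime] {K L : Subgroup G} (hKL : K ≤ L)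
    (hL : ∃ Q : Sylow p G, (Q : Subgroup G) ≤ L) :
    ∃ f : ℕ, f ≡ K.relIndex L [MOD p] ∧ nu p L * f = K.relIndex L * nu p K ∧
      ∀ R ≤ L, ∑ y ∈ cosets K L, nu p (R ⊓ stabilizer G y) = nu p R * f := by
  classical
  obtain ⟨Q₀, hQ₀⟩ := hL
  set fx : Sylow p G → ℕ := fun Q =>
    ((cosets K L).filter fun y => (Q : Subgroup G) ≤ stabilizer G y).card with hfx
  have hconst : ∀ Q : Sylow p G, (Q : Subgroup G) ≤ L → fx Q = fx Q₀ := by
    intro Q hQ
    obtain ⟨x, hx, rfl⟩ := conj_in hQ₀ hQ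
    refine (Finset.card_bij (fun y _ => x • y) ?_ (fun a _ b _ e => smul_left_cancel x e) ?_).symm
    · intro y hy
      rw [Finset.mem_filter] at hy ⊢
      refine ⟨smul_mem_cosets hx hy.1, ?_⟩
      rintro _ ⟨a, ha, rfl⟩
      rw [mem_stabilizer_iff]
      show (x * a * x⁻¹) • x • y = x • y
      rw [← mul_smul, inv_mul_cancel_right, mul_smul, mem_stabilizer_iff.1 (hy.2 ha)]
    · intro y hy
      rw [Finset.mem_filter] at hy
      refine ⟨x⁻¹ • y, Finset.mem_filter.2 ⟨smul_mem_cosets (inv_mem hx) hy.1, fun a ha => ?_⟩, smul_inv_smul x y⟩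
      have h := hy.2 (show x * a * x⁻¹ ∈ ((x • Q₀ : Sylow p G) : Subgroup G) from ⟨a, ha, rfl⟩)
      rw [mem_stabilizer_iff] at h ⊢
      rw [eq_inv_smul_iff, ← mul_smul, ← mul_smul]
      simpa [mul_assoc] using h
  refine ⟨fx Q₀, ?_, ?_⟩
  · -- the congruence
    set O := orbit L (QuotientGroup.mk 1 : G ⧸ K)
    letI : MulAction ↥(Q₀ : Subgroup G) O := MulAction.compHom O (inclusion hQ₀)
    have h := Q₀.2.card_modEq_card_fixedPoints O
    have e1 : Nat.card O = K.relIndex L := by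
      rw [card_orbit, stabilizer_mk, map_of_mem (one_mem K), inf_eq_right.2 hKL]
    have e2 : Nat.card (fixedPoints ↥(Q₀ : Subgroup G) O) = fx Q₀ := by
      rw [hfx]; beta_reduce; rw [← Nat.card_eq_finsetCard]
      refine Nat.card_congr
        { toFun := fun y => ⟨(y.1 : G ⧸ K), Finset.mem_filter.2 ⟨(Set.toFinite _).mem_toFinset.2 y.1.2,
            fun a ha => congrArg Subtype.val (y.2 ⟨a, ha⟩)⟩⟩
          invFun := fun y => ⟨⟨y.1, (Set.toFinite _).mem_toFinset.1 (Finset.mem_filter.1 y.2).1⟩,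
            fun a => Subtype.ext ((Finset.mem_filter.1 y.2).2 a.2)⟩
          left_inv := fun _ => rfl
          right_inv := fun _ => rfl }
    rw [e1, e2] at h
    exact h.symm
  have hsum : ∀ R ≤ L, ∑ y ∈ cosets K L, nu p (R ⊓ stabilizer G y) = nu p R * fx Q₀ := by
    intro R hR
    haveI := Fintype.ofFinite (Sylow p G)
    have hnu : ∀ X : Subgroup G, nu p X = (Finset.univ.filter fun Q : Sylow p G => (Q : Subgroup G) ≤ X).card :=
      fun X => by rw [nu, Nat.card_eq_fintype_card, Fintype.card_subtype]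
    simp only [hnu, le_inf_iff, ← Finset.filter_filter]
    refine ((Finset.sum_card_bipartiteAbove_eq_sum_card_bipartiteBelow
      (r := fun (Q : Sylow p G) (y : G ⧸ K) => (Q : Subgroup G) ≤ stabilizer G y)
      (s := Finset.univ.filter fun Q : Sylow p G => (Q : Subgroup G) ≤ R) (t := cosets K L)).symm.trans ?_)
    exact Finset.sum_const_nat fun Q hQ => hconst Q ((Finset.mem_filter.1 hQ).2.trans hR)
  refine ⟨?_, hsum⟩
  rw [← hsum L le_rfl, ← card_cosets hKL, ← smul_eq_mul, ← Finset.sum_const]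
  refine Finset.sum_congr rfl fun y hy => ?_
  obtain ⟨l, hl, rfl⟩ := mem_cosets.1 hy
  rw [inf_eq_right.2 ?_, stabilizer_mk, nu_map]
  rw [stabilizer_mk]
  rintro _ ⟨b, hb, rfl⟩
  exact mul_mem (mul_mem hl (hKL hb)) (inv_mem hl)

end Cfsg.Agent.SylowRatio
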