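import Cfsg.Agent.Lib.SylowRatio.Main

/-!
The bound for the numbers of Sylow subgroups.
-/

set_option autoImplicit false
set_option linter.style.haveILetI false
set_option maxHeartbeats 200000

namespace Cfsg.Agent.SylowRatio

universe u

variable {G : Type u} [Group G] [Finite G] {p : ℕ} [Fact p.Prime]

theorem core_top (hgen : Subgroup.closure {g : G | ∃ k : ℕ, orderOf g = p ^ k} = ⊤) :
    core p (⊤ : Subgroup G) = ⊤ := by
  refine top_le_iff.1 ?_
  calc (⊤ : Subgroup G) = Subgroup.closure {g : G | ∃ k : ℕ, orderOf g = p ^ k} := hgen.symm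
    _ ≤ core p (⊤ : Subgroup G) := by
      refine (Subgroup.closure_le _).2 fun g hg => ?_
      obtain ⟨k, hk⟩ := hg
      have hp : IsPGroup p ↥(Subgroup.zpowers g) := IsPGroup.of_card (n := k) ((Nat.card_zpowers g).trans hk)
      obtain ⟨Q, hQ⟩ := hp.exists_le_sylow
      exact le_core (X := (⊤ : Subgroup G)) (Q := Q) le_top (hQ (Subgroup.mem_zpowers g))

theorem nu_top : nu p (⊤ : Subgroup G) = Nat.card (Sylow p G) :=
  Nat.card_congr (Equiv.subtypeUnivEquiv fun _ => le_top)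

theorem nu_eq {H : Subgroup G} (P : Sylow p G) (hP : (P : Subgroup G) ≤ H) :
    nu p H = Nat.card (Sylow p ↥H) := by
  refine Nat.card_eq_of_bijective (fun Q => Q.1.subtype Q.2) ⟨fun a b e => ?_, fun R => ?_⟩
  · exact Subtype.ext (Sylow.subtype_injective e)
  · obtain ⟨x, hx⟩ := MulAction.exists_smul_eq ↥H (P.subtype hP) R
    refine ⟨⟨(x : G) • P, Sylow.smul_le hP x⟩, ?_⟩
    rw [← hx]
    exact (Sylow.smul_subtype hP x).symm

theorem count (hgen : Subgroup.closure {g : G | ∃ k : ℕ, orderOf g = p ^ k} = ⊤) (H : Subgroup G) (hH : H ≠ ⊤)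
    (P : Sylow p G) (hP : (P : Subgroup G) ≤ H) :
    (2 * p - 1) * Nat.card (Sylow p ↥H) ≤ (p - 1) * Nat.card (Sylow p G) := by
  have h := bound (p := p) (H.relIndex ⊤ + 1) (⊤ : Subgroup G) H (core_top hgen) le_top
    (fun h => hH (top_le_iff.1 h)) (Nat.lt_succ_self _)
  rw [nu_top, nu_eq P hP] at h
  have h1 := (Fact.out : p.Prime).one_lt
  have h2 : ((2 * p - 1 : ℕ) : ℤ) = 2 * (p : ℤ) - 1 := by omega
  have h3 : ((p - 1 : ℕ) : ℤ) = (p : ℤ) - 1 := by omega
  rw [← h2, ← h3] at h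
  exact_mod_cast h

end Cfsg.Agent.SylowRatio
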