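import Cfsg.Agent.Lib.SylowRatio.Basic
import Mathlib.Algebra.Order.BigOperators.Ring.Finset
import Mathlib.Tactic.Linarith
import Mathlib.Tactic.LinearCombination
import Mathlib.Tactic.Positivity
import Mathlib.Tactic.Ring

/-!
In a group generated by its Sylow subgroups, a proper subgroup contains at most the proportion `(p-1)/(2p-1)`
of them.

In a minimal counterexample the cosets of a maximal subgroup carry a cycle of length `p` of a `p`-element. Going
through its points one by one, always taking a point whose stabiliser contains most Sylow subgroups, the excess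
grows by less than `p` at each step, so some Sylow subgroup fixes the whole cycle, against the Frattini argument.
-/

set_option autoImplicit false
set_option linter.style.haveILetI false
set_option linter.unusedSectionVars false

namespace Cfsg.Agent.SylowRatio

open Subgroup MulAction
open scoped Pointwise

variable {G : Type*} [Group G] [Finite G] {p : ℕ} [hp : Fact p.Prime]

/-- The excess of the cosets of `K` in `L`. -/
noncomputable def exc (p : ℕ) (L K : Subgroup G) : ℤ :=
  K.relIndex L * (((p : ℤ) - 1) * nu p L - (2 * (p : ℤ) - 1) * nu p K)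

/-- The bound for indices less than `N`. -/
def Below (G : Type*) [Group G] (p N : ℕ) : Prop :=
  ∀ L K : Subgroup G, core p L = L → K ≤ L → ¬ L ≤ K → K.relIndex L < N →
    (2 * (p : ℤ) - 1) * nu p K ≤ ((p : ℤ) - 1) * nu p L

/-- The state of a point, with stabiliser `Z`, relative to a subgroup `R`. -/
def State (p : ℕ) (N i : ℕ) (R Z : Subgroup G) : Prop :=
  R ≤ Z ∨ ∃ M : Subgroup G, M ≤ R ∧ ¬ R ≤ M ∧ (∀ X, M ≤ X → X ≤ R → X = M ∨ X = R) ∧ 0 < nu p M ∧
    (∀ Q : Sylow p G, (Q : Subgroup G) ≤ M → (Q : Subgroup G) ≤ Z) ∧ M.relIndex R < N ∧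
    exc p R M < p * i * nu p R

/-- The excess of an intermediate subgroup is smaller, and the extra part is that of fixed points. -/
theorem exc_split {R M M' : Subgroup G} (hM' : M' ≤ M) (hMR : M ≤ R) :
    exc p R M' = M'.relIndex M * exc p R M +
      (2 * (p : ℤ) - 1) * (M.relIndex R * ((M'.relIndex M : ℤ) * nu p M - M'.relIndex M * nu p M')) := by
  have h : ((M'.relIndex R : ℕ) : ℤ) = M'.relIndex M * M.relIndex R := by
    rw [← Nat.cast_mul, relIndex_mul_relIndex M' M R hM' hMR]
  simp only [exc, h]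
  ring

/-- One step along the cycle. -/
theorem step {N i : ℕ} {L K R Z : Subgroup G} (hIH : Below G p N) (hK : K ≤ L) (hKne : ¬ L ≤ K) (hL : core p L = L)
    (hmax : ∀ X, K ≤ X → X ≤ L → X = K ∨ X = L) (hR : R ≤ L) (hRg : core p R = R) (hR0 : 0 < nu p R)
    (hKR : nu p K ≤ nu p R) (hZ : ∀ Q : Sylow p G, (Q : Subgroup G) ≤ K → (Q : Subgroup G) ≤ Z)
    (hi : i + 2 ≤ p) (hE : exc p L K < p * i * nu p L) (hn : K.relIndex L ≤ N)
    (hfix : K.relIndex L < N ∨ ∃ l ∈ L, R ≤ K.map (MulAut.conj l).toMonoidHom) :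
    State p N (i + 1) R Z := by
  classical
  have hp2 := hp.out.two_le
  have hp' : (2 : ℤ) ≤ p := by exact_mod_cast hp2
  obtain ⟨Q₁, hQ₁⟩ := nu_pos_iff.1 hR0
  by_cases hRK : R ≤ K
  · exact Or.inl (hRg ▸ core_le_of fun Q hQ => hZ Q (hQ.trans hRK))
  obtain ⟨f, hfm, hf, hfR⟩ := exists_fix p hK ⟨Q₁, hQ₁.trans hR⟩
  have hνL : (0 : ℤ) < nu p L := by exact_mod_cast nu_pos_iff.2 ⟨Q₁, hQ₁.trans hR⟩
  -- the weights
  set t : G ⧸ K → ℤ := fun y => ((p : ℤ) - 1) * nu p R - (2 * (p : ℤ) - 1) * nu p (R ⊓ stabilizer G y) with ht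
  have hsum : nu p L * ∑ y ∈ cosets K L, t y = nu p R * exc p L K := by
    have h1 : (∑ y ∈ cosets K L, (nu p (R ⊓ stabilizer G y) : ℤ)) = nu p R * f := by exact_mod_cast hfR R hR
    have h2 : (nu p L : ℤ) * f = K.relIndex L * nu p K := by exact_mod_cast hf
    simp only [ht, Finset.sum_sub_distrib, Finset.sum_const, card_cosets hK, nsmul_eq_mul, ← Finset.mul_sum, h1,
      exc]
    linear_combination (-(2 * (p : ℤ) - 1) * (nu p R : ℤ)) * h2
  -- at most one point is fixed
  have huniq : ∀ y ∈ cosets K L, ∀ y' ∈ cosets K L, R ≤ stabilizer G y → R ≤ stabilizer G y' → y = y' := by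
    intro y hy y' hy' h h'
    obtain ⟨g, hg, rfl⟩ := mem_cosets.1 hy
    obtain ⟨g', hg', rfl⟩ := mem_cosets.1 hy'
    rw [stabilizer_mk] at h h'
    have hcore : ∀ {a : G}, R ≤ K.map (MulAut.conj a).toMonoidHom →
        core p (K.map (MulAut.conj a).toMonoidHom) = R := fun {a} ha =>
      le_antisymm (core_le_of fun Q hQ => le_of_nu_le (fun Q' hQ' => hQ'.trans ha) (by rwa [nu_map]) hQ)
        (hRg ▸ core_le_of fun Q hQ => le_core (hQ.trans ha))
    have e : (core p K).map (MulAut.conj g).toMonoidHom = (core p K).map (MulAut.conj g').toMonoidHom := by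
      rw [← core_map, ← core_map, hcore h, hcore h']
    have hh : g⁻¹ * g' ∈ normalizer (core p K : Set G) := by
      refine mem_normalizer_iff_map_conj_eq.2 ?_
      have e' := congrArg (fun X : Subgroup G => X.map (MulAut.conj g⁻¹).toMonoidHom) e
      simp only [Subgroup.map_map] at e'
      have c1 : (MulAut.conj g⁻¹).toMonoidHom.comp (MulAut.conj g).toMonoidHom = MonoidHom.id G :=
        MonoidHom.ext fun a => by simp [mul_assoc]
      have c2 : (MulAut.conj g⁻¹).toMonoidHom.comp (MulAut.conj g').toMonoidHom =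
          (MulAut.conj (g⁻¹ * g')).toMonoidHom := MonoidHom.ext fun a => by simp [mul_assoc]
      rw [c1, c2, Subgroup.map_id] at e'
      exact e'.symm
    have hKn : K ≤ normalizer (core p K : Set G) := fun k hk => mem_normalizer_iff_map_conj_eq.2
      (show (core p K).map (MulAut.conj k).toMonoidHom = core p K by rw [← core_map, map_of_mem hk])
    refine QuotientGroup.eq.2 ?_
    rcases hmax (normalizer (core p K : Set G) ⊓ L) (le_inf hKn hK) inf_le_right with e1 | e1
    · have h2 : g⁻¹ * g' ∈ normalizer (core p K : Set G) ⊓ L :=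
        mem_inf.2 ⟨hh, L.mul_mem (L.inv_mem hg) hg'⟩
      rwa [e1] at h2
    · exfalso
      have hQ' : ∃ Q : Sylow p G, (Q : Subgroup G) ≤ K :=
        nu_pos_iff.1 (nu_map (p := p) g K ▸ nu_pos_iff.2 ⟨Q₁, hQ₁.trans h⟩)
      obtain ⟨Q', hQ'⟩ := hQ'
      refine hKne (hL ▸ (core_le_of_normal ((core_le K).trans hK) ?_ (le_core hQ')).trans (core_le K))
      exact e1.ge.trans inf_le_left
  -- points moved by `R` have nonnegative weight
  have hpos : ∀ y ∈ cosets K L, ¬ R ≤ stabilizer G y → 0 ≤ t y := by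
    intro y hy hyR
    have hlt : (R ⊓ stabilizer G y).relIndex R < N := by
      rw [← card_orbit, Nat.card_coe_set_eq]
      have hsub : orbit R y ⊆ (cosets K L : Set (G ⧸ K)) := by
        rintro _ ⟨r, rfl⟩
        exact smul_mem_cosets (hR r.2) hy
      have hle := Set.ncard_le_ncard hsub (Set.toFinite _)
      rw [Set.ncard_coe_finset, card_cosets hK] at hle
      rcases hfix with h | ⟨l, hl, h⟩
      · omega
      refine lt_of_lt_of_le (Set.ncard_lt_ncard (hsub.ssubset_of_ne fun e => hyR ?_) (Set.toFinite _)) ?_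
      · obtain ⟨r, hr⟩ : (QuotientGroup.mk l : G ⧸ K) ∈ orbit R y := by
          rw [e]; exact mem_cosets.2 ⟨l, hl, rfl⟩
        have hl' : R ≤ stabilizer G (QuotientGroup.mk l : G ⧸ K) := by rwa [stabilizer_mk]
        have hy' : y = (QuotientGroup.mk l : G ⧸ K) := by
          have h2 := mem_stabilizer_iff.1 (hl' (inv_mem r.2))
          rw [← hr] at h2
          change (r : G)⁻¹ • (r : G) • y = (r : G) • y at h2
          rw [inv_smul_smul] at h2
          exact h2.trans hr
        exact hy' ▸ hl'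
      · rwa [Set.ncard_coe_finset, card_cosets hK]
    have h := hIH R (R ⊓ stabilizer G y) hRg inf_le_left (fun h => hyR (h.trans inf_le_right)) hlt
    simp only [ht]
    linarith
  set b : G ⧸ K := QuotientGroup.mk 1 with hb
  have hstab : stabilizer G b = K := by rw [hb, stabilizer_mk, map_of_mem (one_mem K)]
  have hbY : b ∈ cosets K L := mem_cosets.2 ⟨1, one_mem L, rfl⟩
  -- the orbit of the base point
  have hW : exc p R (R ⊓ K) < p * (i + 1 : ℕ) * nu p R := by
    set W := cosets K L |>.filter fun y => y ∈ orbit R b with hWdef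
    set S := (cosets K L).filter fun y => ¬ R ≤ stabilizer G y with hS
    have hWc : W.card = (R ⊓ K).relIndex R := by
      have h := card_orbit K R b
      rw [hstab] at h
      rw [← h, Nat.card_coe_set_eq, ← Set.ncard_coe_finset]
      congr 1
      ext y
      simp only [hWdef, Finset.coe_filter, Set.mem_ofPred_eq]
      refine ⟨fun h => h.2, fun h => ⟨?_, h⟩⟩
      obtain ⟨r, rfl⟩ := h
      exact smul_mem_cosets (hR r.2) hbY
    have hWt : ∀ y ∈ W, t y = t b := by
      intro y hy
      obtain ⟨r, rfl⟩ := (Finset.mem_filter.1 hy).2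
      simp only [ht]
      change _ - _ * (nu p (R ⊓ stabilizer G ((r : G) • b)) : ℤ) = _
      rw [stabilizer_smul_eq_stabilizer_map_conj]
      have e := congrArg (fun X : Subgroup G => nu p (X ⊓ (stabilizer G b).map (MulAut.conj (r : G)).toMonoidHom))
        (map_of_mem r.2).symm
      beta_reduce at e
      rw [e, ← map_inf _ _ _ (MulAut.conj (r : G)).injective, nu_map]
    have hWS : W ⊆ S := by
      intro y hy
      obtain ⟨hyY, r, rfl⟩ := Finset.mem_filter.1 hy
      refine Finset.mem_filter.2 ⟨hyY, fun h => hRK ?_⟩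
      rw [← hstab]
      intro a ha
      have h1 := mem_stabilizer_iff.1 (h (mul_mem (mul_mem r.2 ha) (inv_mem r.2)))
      change ((r : G) * a * (r : G)⁻¹) • (r : G) • b = (r : G) • b at h1
      rw [← mul_smul, inv_mul_cancel_right, mul_smul, smul_left_cancel_iff] at h1
      exact h1
    have hsplit := Finset.sum_filter_add_sum_filter_not (cosets K L) (fun y => R ≤ stabilizer G y) t
    have hfixed : -(p : ℤ) * nu p R ≤ ∑ y ∈ (cosets K L).filter fun y => R ≤ stabilizer G y, t y := by
      rcases ((cosets K L).filter fun y => R ≤ stabilizer G y).eq_empty_or_nonempty with e | ⟨y, hy⟩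
      · rw [e, Finset.sum_empty]
        nlinarith
      · have e : (cosets K L).filter (fun y => R ≤ stabilizer G y) = {y} := by
          refine Finset.eq_singleton_iff_unique_mem.2 ⟨hy, fun y' hy' => ?_⟩
          rw [Finset.mem_filter] at hy hy'
          exact huniq _ hy'.1 _ hy.1 hy'.2 hy.2
        rw [e, Finset.sum_singleton]
        simp only [ht, inf_eq_left.2 (Finset.mem_filter.1 hy).2]
        linarith
    have hW' : ∑ y ∈ W, t y ≤ ∑ y ∈ S, t y :=
      Finset.sum_le_sum_of_subset_of_nonneg hWS fun y hy _ => hpos y (Finset.mem_filter.1 hy).1 (Finset.mem_filter.1 hy).2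
    rw [Finset.sum_congr rfl hWt, Finset.sum_const, hWc, nsmul_eq_mul] at hW'
    have hexc : exc p R (R ⊓ K) = ((R ⊓ K).relIndex R : ℤ) * t b := by
      simp only [exc, ht, hstab]
    have hlt : ∑ y ∈ cosets K L, t y < p * i * nu p R := by
      refine lt_of_mul_lt_mul_left ?_ hνL.le
      rw [hsum]
      have hR0' : (0 : ℤ) < nu p R := by exact_mod_cast hR0
      nlinarith
    rw [hexc]
    push_cast
    linarith
  -- the stabiliser contains a Sylow subgroup
  have hn0 : 0 < (R ⊓ K).relIndex R := Nat.pos_of_ne_zero index_ne_zero_of_finite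
  have hip : ((i + 1 : ℕ) : ℤ) ≤ p - 1 := by push_cast; omega
  obtain ⟨g, hgm, hg, -⟩ := exists_fix p (inf_le_left : R ⊓ K ≤ R) ⟨Q₁, hQ₁⟩
  have hνK : 0 < nu p (R ⊓ K) := by
    by_contra h
    have h0 : nu p (R ⊓ K) = 0 := by omega
    have hg0 : g = 0 := by
      rw [h0, mul_zero] at hg
      exact (Nat.mul_eq_zero.1 hg).resolve_left (by omega)
    rw [hg0] at hgm
    have hdvd : p ∣ (R ⊓ K).relIndex R := Nat.modEq_zero_iff_dvd.1 hgm.symm
    have hle : (p : ℤ) ≤ (R ⊓ K).relIndex R := by exact_mod_cast Nat.le_of_dvd hn0 hdvd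
    simp only [exc, h0, Nat.cast_zero, mul_zero, sub_zero] at hW
    have hR0' : (0 : ℤ) < nu p R := by exact_mod_cast hR0
    nlinarith [mul_le_mul_of_nonneg_right hle (mul_nonneg (by linarith : (0 : ℤ) ≤ p - 1) hR0'.le),
      mul_le_mul_of_nonneg_left hip (mul_nonneg (by linarith : (0 : ℤ) ≤ p) hR0'.le)]
  -- a maximal subgroup above it
  obtain ⟨M, ⟨hKM, hMR, hRM⟩, hM⟩ := Set.Finite.exists_maximalFor id
    {X : Subgroup G | R ⊓ K ≤ X ∧ X ≤ R ∧ ¬ R ≤ X} (Set.toFinite _)
    ⟨R ⊓ K, le_rfl, inf_le_left, fun h => hRK (h.trans inf_le_right)⟩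
  have hMmax : ∀ X, M ≤ X → X ≤ R → X = M ∨ X = R := by
    intro X hMX hXR
    by_cases hRX : R ≤ X
    · exact Or.inr (le_antisymm hXR hRX)
    · exact Or.inl (le_antisymm (hM (show X ∈ {X : Subgroup G | R ⊓ K ≤ X ∧ X ≤ R ∧ ¬ R ≤ X} from
        ⟨hKM.trans hMX, hXR, hRX⟩) hMX) hMX)
  have hνM : 0 < nu p M := hνK.trans_le (nu_mono fun Q hQ => hQ.trans hKM)
  have hMlt : M.relIndex R < N := by
    have hdvd : M.relIndex R ≤ (R ⊓ K).relIndex R :=
      Nat.le_of_dvd hn0 ⟨(R ⊓ K).relIndex M, by rw [mul_comm, relIndex_mul_relIndex _ _ _ hKM hMR]⟩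
    refine hdvd.trans_lt ?_
    have h := card_orbit K R b
    rw [hstab] at h
    rw [← h, Nat.card_coe_set_eq]
    have hsub : orbit R b ⊆ (cosets K L : Set (G ⧸ K)) := by
      rintro _ ⟨r, rfl⟩
      exact smul_mem_cosets (hR r.2) hbY
    have hle := Set.ncard_le_ncard hsub (Set.toFinite _)
    rw [Set.ncard_coe_finset, card_cosets hK] at hle
    rcases hfix with h | ⟨l, hl, h⟩
    · omega
    refine lt_of_lt_of_le (Set.ncard_lt_ncard (hsub.ssubset_of_ne fun e => hRK ?_) (Set.toFinite _)) ?_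
    · obtain ⟨r, hr⟩ : (QuotientGroup.mk l : G ⧸ K) ∈ orbit R b := by
        rw [e]; exact mem_cosets.2 ⟨l, hl, rfl⟩
      have hl' : R ≤ stabilizer G (QuotientGroup.mk l : G ⧸ K) := by rwa [stabilizer_mk]
      have hb' : b = (QuotientGroup.mk l : G ⧸ K) := by
        have h2 := mem_stabilizer_iff.1 (hl' (inv_mem r.2))
        rw [← hr] at h2
        change (r : G)⁻¹ • (r : G) • b = (r : G) • b at h2
        rw [inv_smul_smul] at h2
        exact h2.trans hr
      rw [← hstab, hb']
      exact hl'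
    · rwa [Set.ncard_coe_finset, card_cosets hK]
  have hE1 : 0 ≤ exc p R M := mul_nonneg (Nat.cast_nonneg _) (by linarith [hIH R M hRg hMR hRM hMlt])
  -- the fibre is fixed pointwise
  obtain ⟨Q₂, hQ₂⟩ := nu_pos_iff.1 hνM
  obtain ⟨f₁, -, hf₁, -⟩ := exists_fix p hMR ⟨Q₁, hQ₁⟩
  obtain ⟨f₂, hf₂m, hf₂, -⟩ := exists_fix p hKM ⟨Q₂, hQ₂⟩
  set n₂ := (R ⊓ K).relIndex M with hn₂
  have hn₂pos : 0 < n₂ := Nat.pos_of_ne_zero index_ne_zero_of_finite
  have hf₁' : 0 < f₁ := by
    rcases Nat.eq_zero_or_pos f₁ with h | h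
    · rw [h, mul_zero, eq_comm, Nat.mul_eq_zero] at hf₁
      rcases hf₁ with h' | h'
      · exact absurd h' index_ne_zero_of_finite
      · omega
    · exact h
  have hf₂le : f₂ ≤ n₂ := by
    refine Nat.le_of_mul_le_mul_left ?_ hνM
    rw [hf₂, mul_comm]
    exact Nat.mul_le_mul_right _ (nu_mono fun Q hQ => hQ.trans hKM)
  have hsplit := exc_split (p := p) hKM hMR
  rw [← hn₂] at hsplit
  have hextra : (M.relIndex R : ℤ) * ((n₂ : ℤ) * nu p M - n₂ * nu p (R ⊓ K)) =
      nu p R * f₁ * ((n₂ : ℤ) - f₂) := by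
    have h1 : (nu p R : ℤ) * f₁ = M.relIndex R * nu p M := by exact_mod_cast hf₁
    have h2 : (nu p M : ℤ) * f₂ = n₂ * nu p (R ⊓ K) := by exact_mod_cast hf₂
    linear_combination (-((n₂ : ℤ) - f₂)) * h1 + (M.relIndex R : ℤ) * h2
  rw [hextra] at hsplit
  have hE1n : exc p R M ≤ n₂ * exc p R M := le_mul_of_one_le_left hE1 (by exact_mod_cast hn₂pos)
  have hdiff : n₂ = f₂ := by
    by_contra hne
    have hd : p ≤ n₂ - f₂ := Nat.le_of_dvd (by omega) ((Nat.modEq_iff_dvd' hf₂le).1 hf₂m)
    have hd' : (p : ℤ) ≤ (n₂ : ℤ) - f₂ := by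
      rw [← Nat.cast_sub hf₂le]
      exact_mod_cast hd
    have hR0' : (0 : ℤ) < nu p R := by exact_mod_cast hR0
    have hf1' : (1 : ℤ) ≤ f₁ := by exact_mod_cast hf₁'
    have h3 : (p : ℤ) * nu p R ≤ nu p R * f₁ * ((n₂ : ℤ) - f₂) := by
      nlinarith [mul_le_mul hf1' hd' (by linarith) (by linarith : (0 : ℤ) ≤ (f₁ : ℤ))]
    nlinarith [mul_le_mul_of_nonneg_left h3 (by linarith : (0 : ℤ) ≤ 2 * (p : ℤ) - 1),
      mul_le_mul_of_nonneg_left hip (mul_nonneg (by linarith : (0 : ℤ) ≤ p) hR0'.le),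
      mul_pos (mul_pos (by linarith : (0 : ℤ) < p) (by linarith : (0 : ℤ) < p)) hR0']
  rw [← hdiff, mul_comm] at hf₂
  have heq : nu p (R ⊓ K) = nu p M := (Nat.eq_of_mul_eq_mul_left hn₂pos hf₂).symm
  refine Or.inr ⟨M, hMR, hRM, hMmax, hνM, fun Q hQ =>
    hZ Q ((le_of_nu_le (fun Q' hQ' => hQ'.trans hKM) heq.ge hQ).trans inf_le_right), hMlt, ?_⟩
  rw [← hdiff, sub_self, mul_zero, mul_zero, add_zero] at hsplit
  linarith

/-- A `p`-cycle of a `p`-element is not fixed pointwise by a Sylow subgroup. -/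
theorem no_common {K : Subgroup G} {x : G} (hxp : x ^ p ∈ K) {Q : Sylow p G}
    (hQ : ∀ i < p, (Q : Subgroup G) ≤ K.map (MulAut.conj (x ^ i)).toMonoidHom) : x ∈ K := by
  set c : ℕ → G ⧸ K := fun i => QuotientGroup.mk (x ^ i) with hc
  have hper : ∀ i, c i = c (i % p) := by
    intro i
    refine QuotientGroup.eq.2 ?_
    have e : (x ^ i)⁻¹ * x ^ (i % p) = ((x ^ p) ^ (i / p))⁻¹ := by
      rw [← pow_mul]
      nth_rewrite 1 [← Nat.div_add_mod i p]
      rw [pow_add]
      group
    rw [e]
    exact inv_mem (pow_mem hxp _)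
  set S : Subgroup G := ⨅ i, stabilizer G (c i) with hS
  have hQS : (Q : Subgroup G) ≤ S := le_iInf fun i => by
    rw [hper i, hc, stabilizer_mk]
    exact hQ _ (Nat.mod_lt _ hp.out.pos)
  have hc1 : ∀ i, x • c i = c (i + 1) := fun i => congrArg QuotientGroup.mk (pow_succ' x i).symm
  have hxS : ((x • Q : Sylow p G) : Subgroup G) ≤ S := by
    rintro _ ⟨a, ha, rfl⟩
    refine mem_iInf.2 fun i => mem_stabilizer_iff.2 ?_
    have e1 : c i = x • c (i + (p - 1)) := by
      rw [hc1, hper i, hper (i + (p - 1) + 1), show i + (p - 1) + 1 = i + p by have := hp.out.pos; omega,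
        Nat.add_mod_right]
    show (x * a * x⁻¹) • c i = c i
    rw [e1, ← mul_smul, inv_mul_cancel_right, mul_smul, mem_stabilizer_iff.1 (mem_iInf.1 (hQS ha) _)]
  obtain ⟨s, hs, e⟩ := conj_in hxS hQS
  rw [← mul_smul] at e
  set u := s * x with hu
  have hu1 : ∀ i, u • c i = c (i + 1) := fun i => by
    rw [hu, mul_smul, hc1]
    exact mem_stabilizer_iff.1 (mem_iInf.1 hs _)
  have hupow : ∀ n, u ^ n • c 0 = c n := by
    intro n
    induction n with
    | zero => rw [pow_zero, one_smul]
    | succ n ih => rw [pow_succ', mul_smul, ih, hu1]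
  -- the part of `p`-power order of the normalising element
  obtain ⟨a, m, hm, hord⟩ := Nat.exists_eq_pow_mul_and_not_dvd (orderOf_pos u).ne' p hp.out.ne_one
  have hun : u ∈ normalizer ((Q : Subgroup G) : Set G) := Sylow.smul_eq_iff_mem_normalizer.1 e
  have hmem : u ^ m ∈ (Q : Subgroup G) := by
    have hle : zpowers (u ^ m) ≤ normalizer ((Q : Subgroup G) : Set G) := zpowers_le.2 (pow_mem hun m)
    have hz : IsPGroup p (zpowers (u ^ m)) := fun y => by
      refine ⟨a, Subtype.ext ?_⟩
      obtain ⟨k, hk⟩ := mem_zpowers_iff.1 y.2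
      have h1 : (u ^ m) ^ p ^ a = 1 := by rw [← pow_mul, mul_comm, ← hord, pow_orderOf_eq_one]
      rw [SubmonoidClass.coe_pow, OneMemClass.coe_one, ← hk, ← zpow_natCast, ← zpow_mul, mul_comm, zpow_mul,
        zpow_natCast, h1, one_zpow]
    have heq := Q.3 (hz.to_sup_of_normal_right' Q.2 hle) le_sup_right
    exact heq ▸ mem_sup_left (mem_zpowers _)
  have hfix : c m = c 0 := by rw [← hupow m]; exact mem_stabilizer_iff.1 (mem_iInf.1 (hQS hmem) 0)
  rw [hc] at hfix
  have hxm : x ^ m ∈ K := by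
    have h := QuotientGroup.eq.1 hfix
    rw [pow_zero, mul_one] at h
    exact inv_mem_iff.1 h
  have hcop : Nat.Coprime m p := (hp.out.coprime_iff_not_dvd.2 hm).symm
  have hgcd : Nat.gcd m p = 1 := hcop
  have : x ^ ((Nat.gcd m p : ℕ) : ℤ) ∈ K := by
    rw [Nat.gcd_eq_gcd_ab, zpow_add, zpow_mul, zpow_mul, zpow_natCast, zpow_natCast]
    exact mul_mem (zpow_mem hxm _) (zpow_mem hxp _)
  rwa [hgcd, Nat.cast_one, zpow_one] at this

/-- The proportion of Sylow subgroups in a proper subgroup. -/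
theorem bound : ∀ N, Below G p N := by
  classical
  have hp' : (2 : ℤ) ≤ p := by exact_mod_cast hp.out.two_le
  intro N
  induction N with
  | zero => intro L K _ _ _ h; omega
  | succ n ih =>
  intro L K hL hK hKne hlt
  rcases lt_or_eq_of_le (Nat.lt_succ_iff.1 hlt) with h | hn
  · exact ih L K hL hK hKne h
  rcases Nat.eq_zero_or_pos (nu p K) with h0 | hK0
  · rw [h0]
    push_cast
    nlinarith [show (0 : ℤ) ≤ nu p L from Nat.cast_nonneg _]
  by_contra hbad
  push Not at hbad
  have hn0 : 0 < n := hn ▸ Nat.pos_of_ne_zero index_ne_zero_of_finite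
  -- the subgroup is maximal
  have hmax : ∀ X, K ≤ X → X ≤ L → X = K ∨ X = L := by
    intro X hKX hXL
    by_contra hne
    simp only [not_or] at hne
    have hlt' : X.relIndex L < n := by
      have hmul := relIndex_mul_relIndex K X L hKX hXL
      have h2 : 1 < K.relIndex X := by
        rcases Nat.lt_or_ge 1 (K.relIndex X) with h | h
        · exact h
        · exfalso
          have h1 : K.relIndex X = 1 := by
            have : K.relIndex X ≠ 0 := index_ne_zero_of_finite
            omega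
          exact hne.1 (le_antisymm (relIndex_eq_one.1 h1) hKX)
      rw [hn] at hmul
      have hX0 : 0 < X.relIndex L := Nat.pos_of_ne_zero index_ne_zero_of_finite
      nlinarith
    have h := ih L X hL hXL (fun h => hne.2 (le_antisymm hXL h)) hlt'
    have hm : (nu p K : ℤ) ≤ nu p X := by exact_mod_cast nu_mono (p := p) fun Q hQ => hQ.trans hKX
    nlinarith
  -- an element giving a cycle of length `p`
  obtain ⟨Q₀, hQ₀, hQ₀K⟩ : ∃ Q : Sylow p G, (Q : Subgroup G) ≤ L ∧ ¬ (Q : Subgroup G) ≤ K := by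
    by_contra h
    push Not at h
    exact hKne (hL ▸ core_le_of h)
  obtain ⟨y, hy, hyK⟩ := SetLike.not_le_iff_exists.1 hQ₀K
  obtain ⟨x, hxL, hxK, hxp⟩ : ∃ x, x ∈ L ∧ x ∉ K ∧ x ^ p ∈ K := by
    obtain ⟨k, hk⟩ := Q₀.2 ⟨y, hy⟩
    have hk' : y ^ p ^ k = 1 := congrArg Subtype.val hk
    have hex : ∃ k, y ^ p ^ k ∈ K := ⟨k, hk' ▸ one_mem K⟩
    have h0 : Nat.find hex ≠ 0 := fun h => hyK (by simpa [h] using Nat.find_spec hex)
    refine ⟨y ^ p ^ (Nat.find hex - 1), pow_mem (hQ₀ hy) _, Nat.find_min hex (by omega), ?_⟩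
    rw [← pow_mul, ← pow_succ, Nat.sub_add_cancel (by omega)]
    exact Nat.find_spec hex
  set Kc : Fin p → Subgroup G := fun i => K.map (MulAut.conj (x ^ (i : ℕ))).toMonoidHom with hKc
  have hKcL : ∀ i, Kc i ≤ L := by
    rintro i _ ⟨a, ha, rfl⟩
    exact mul_mem (mul_mem (pow_mem hxL _) (hK ha)) (inv_mem (pow_mem hxL _))
  have hnone : ∀ Q : Sylow p G, ¬ ∀ i, (Q : Subgroup G) ≤ Kc i := fun Q h =>
    hxK (no_common hxp fun i hi => h ⟨i, hi⟩)
  -- the induction along the cycle
  have chain : ∀ j, j + 1 ≤ p - 1 → ∃ R : Subgroup G, core p R = R ∧ 0 < nu p R ∧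
      j + 1 ≤ (Finset.univ.filter fun i => R ≤ Kc i).card ∧ ∀ i, State p n (j + 1) R (Kc i) := by
    intro j
    induction j with
    | zero =>
      intro _
      refine ⟨core p K, core_core K, by rw [nu_core]; exact hK0, ?_, fun i => ?_⟩
      · refine Finset.one_le_card.2 ⟨⟨0, hp.out.pos⟩, Finset.mem_filter.2 ⟨Finset.mem_univ _, ?_⟩⟩
        rw [hKc]
        simp only [pow_zero]
        rw [map_of_mem (one_mem K)]
        exact core_le K
      · have hxi : x ^ (i : ℕ) ∈ L := pow_mem hxL _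
        have hconjL : L.map (MulAut.conj (x ^ (i : ℕ))).toMonoidHom = L := map_of_mem hxi
        have hidx : (Kc i).relIndex L = n := by
          conv_lhs => rw [← hconjL, hKc]
          rw [relIndex_map_map_of_injective _ _ (MulAut.conj (x ^ (i : ℕ))).injective, hn]
        refine step (i := 0) ih (hKcL i) ?_ hL ?_ ((core_le K).trans hK) (core_core K)
          (by rw [nu_core]; exact hK0) (by rw [nu_core, hKc, nu_map]) (fun _ h => h) hp.out.two_le ?_ hidx.le
          (Or.inr ⟨(x ^ (i : ℕ))⁻¹, inv_mem hxi, ?_⟩)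
        · intro h
          refine hKne ?_
          rw [← map_le_map_iff_of_injective (f := (MulAut.conj (x ^ (i : ℕ))).toMonoidHom)
            (MulAut.conj (x ^ (i : ℕ))).injective, hconjL]
          exact h
        · intro X h1 h2
          have hY : X.comap (MulAut.conj (x ^ (i : ℕ))).toMonoidHom = K ∨
              X.comap (MulAut.conj (x ^ (i : ℕ))).toMonoidHom = L := by
            refine hmax _ (map_le_iff_le_comap.1 h1) ?_
            refine (comap_mono h2).trans ?_
            conv_lhs => rw [← hconjL]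
            rw [comap_map_eq_self_of_injective (MulAut.conj (x ^ (i : ℕ))).injective]
          rcases hY with h | h
          · left
            rw [hKc]
            simp only
            rw [← h, map_comap_eq_self_of_surjective (MulAut.conj (x ^ (i : ℕ))).surjective]
          · right
            rw [← hconjL, ← h, map_comap_eq_self_of_surjective (MulAut.conj (x ^ (i : ℕ))).surjective]
        · simp only [exc, hidx, Nat.cast_zero, mul_zero, zero_mul]
          have hν : nu p (Kc i) = nu p K := nu_map _ _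
          rw [hν]
          exact mul_neg_of_pos_of_neg (by exact_mod_cast hn0) (by linarith)
        · rw [map_map, show (MulAut.conj (x ^ (i : ℕ))⁻¹).toMonoidHom.comp
            (MulAut.conj (x ^ (i : ℕ))).toMonoidHom = MonoidHom.id G from MonoidHom.ext fun a => by simp [mul_assoc],
            Subgroup.map_id]
          exact core_le K
    | succ j ihj =>
      intro hj
      obtain ⟨R, hRg, hR0, hcard, hst⟩ := ihj (by omega)
      set U := Finset.univ.filter fun i => ¬ R ≤ Kc i with hU
      have hUne : U.Nonempty := by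
        rw [Finset.filter_nonempty_iff]
        by_contra h
        push Not at h
        obtain ⟨Q, hQ⟩ := nu_pos_iff.1 hR0
        exact hnone Q fun i => hQ.trans (h i (Finset.mem_univ i))
      choose M hM using fun i (hi : i ∈ U) => (hst i).resolve_left (Finset.mem_filter.1 hi).2
      obtain ⟨⟨w, hw⟩, -, hwmax⟩ := U.attach.exists_max_image (fun i => nu p (M i.1 i.2)) (by simpa using hUne)
      obtain ⟨hwR, hwRn, -, hw0, hwZ, -, -⟩ := hM w hw
      have hR'R : core p (M w hw) ≤ R := (core_le _).trans hwR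
      have hR'w : core p (M w hw) ≤ Kc w := core_le_of hwZ
      refine ⟨core p (M w hw), core_core _, by rw [nu_core]; exact hw0, ?_, fun i => ?_⟩
      · have hsub : insert w (Finset.univ.filter fun i => R ≤ Kc i) ⊆
            Finset.univ.filter fun i => core p (M w hw) ≤ Kc i := by
          intro i hi
          rcases Finset.mem_insert.1 hi with rfl | hi
          · exact Finset.mem_filter.2 ⟨Finset.mem_univ _, hR'w⟩
          · exact Finset.mem_filter.2 ⟨Finset.mem_univ _, hR'R.trans (Finset.mem_filter.1 hi).2⟩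
        have h := Finset.card_le_card hsub
        rw [Finset.card_insert_of_notMem (show w ∉ (Finset.univ.filter fun i => R ≤ Kc i) from fun h =>
          (Finset.mem_filter.1 hw).2 (Finset.mem_filter.1 h).2)] at h
        omega
      · by_cases hiR : R ≤ Kc i
        · exact Or.inl (hR'R.trans hiR)
        have hiU : i ∈ U := Finset.mem_filter.2 ⟨Finset.mem_univ _, hiR⟩
        obtain ⟨h1, h2, h3, -, h5, h6, h7⟩ := hM i hiU
        exact step ih h1 h2 hRg h3 hR'R (core_core _) (by rw [nu_core]; exact hw0)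
          (by rw [nu_core]; exact hwmax ⟨i, hiU⟩ (Finset.mem_attach _ _)) h5 (by omega) h7 h6.le (Or.inl h6)
  -- the end of the cycle
  obtain ⟨R, -, hR0, hcard, hst⟩ := chain (p - 2) (by have := hp.out.two_le; omega)
  by_cases hall : ∀ i, R ≤ Kc i
  · obtain ⟨Q, hQ⟩ := nu_pos_iff.1 hR0
    exact hnone Q fun i => hQ.trans (hall i)
  push Not at hall
  obtain ⟨i, hi⟩ := hall
  obtain ⟨M, hMR, -, -, hM0, hMZ, -, -⟩ := (hst i).resolve_left hi
  obtain ⟨Q, hQ⟩ := nu_pos_iff.1 hM0
  refine hnone Q fun k => ?_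
  by_cases hk : k = i
  · exact hk ▸ hMZ Q hQ
  refine hQ.trans (hMR.trans ?_)
  by_contra hkR
  have hsub : (Finset.univ.filter fun j => R ≤ Kc j) ⊆ (Finset.univ.erase i).erase k := by
    intro j hj
    have h := (Finset.mem_filter.1 hj).2
    refine Finset.mem_erase.2 ⟨fun e => hkR (e ▸ h), Finset.mem_erase.2 ⟨fun e => hi (e ▸ h), Finset.mem_univ _⟩⟩
  have h := Finset.card_le_card hsub
  rw [Finset.card_erase_of_mem (Finset.mem_erase.2 ⟨hk, Finset.mem_univ _⟩),
    Finset.card_erase_of_mem (Finset.mem_univ _), Finset.card_univ, Fintype.card_fin] at h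
  have := hp.out.two_le
  omega

end Cfsg.Agent.SylowRatio
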